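import Groth.Agent.TorBridge.KerNat
import Mathlib

/-! Uniform Artin–Rees for `Tor`: `Tor_p(IⁿM, N) → Tor_p(M, N)` vanishes for `N` killed by `I`. -/

set_option autoImplicit false
set_option backward.isDefEq.respectTransparency false
set_option linter.style.haveILetI false

universe u

open CategoryTheory Limits MonoidalCategory TensorProduct

namespace H1TorAR

open Groth.Agent.TorBridge KerNat

variable {A : Type u} [CommRing A] {Y : ModuleCat.{u} A} (Q : ProjectiveResolution Y)

/-- The complex computing `Tor(X, Y)` from a resolution of `Y`. -/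
noncomputable abbrev C (X : ModuleCat.{u} A) : ChainComplex (ModuleCat.{u} A) ℕ :=
  ((ten X).mapHomologicalComplex _).obj Q.complex

/-- Functoriality in the first variable. -/
noncomputable abbrev cmap {X X' : ModuleCat.{u} A} (g : X ⟶ X') : C Q X ⟶ C Q X' :=
  (NatTrans.mapHomologicalComplex ((tensoringLeft (ModuleCat.{u} A)).map g) _).app Q.complex

/-- The map on homology. -/
noncomputable abbrev hmap {X X' : ModuleCat.{u} A} (g : X ⟶ X') (p : ℕ) :
    (C Q X).homology p ⟶ (C Q X').homology p :=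
  HomologicalComplex.homologyMap (cmap Q g) p

theorem cmap_comp {X X' X'' : ModuleCat.{u} A} (g : X ⟶ X') (g' : X' ⟶ X'') :
    cmap Q (g ≫ g') = cmap Q g ≫ cmap Q g' := by
  refine HomologicalComplex.hom_ext _ _ fun j => ?_
  exact ModuleCat.hom_ext (LinearMap.rTensor_comp (Q.complex.X j) g'.hom g.hom)

theorem hmap_comp {X X' X'' : ModuleCat.{u} A} (g : X ⟶ X') (g' : X' ⟶ X'') (p : ℕ) :
    hmap Q (g ≫ g') p = hmap Q g p ≫ hmap Q g' p := by
  rw [hmap, cmap_comp, HomologicalComplex.homologyMap_comp]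

theorem hmap_zero {X X' : ModuleCat.{u} A} (p : ℕ) : hmap Q (0 : X ⟶ X') p = 0 := by
  rw [hmap, show cmap Q (0 : X ⟶ X') = 0 by
    refine HomologicalComplex.hom_ext _ _ fun j => ?_; exact ModuleCat.hom_ext (LinearMap.rTensor_zero (Q.complex.X j)),
    HomologicalComplex.homologyMap_zero]

theorem homologyMap_smul' {K L : ChainComplex (ModuleCat.{u} A) ℕ} (φ : K ⟶ L) (r : A) (p : ℕ) :
    HomologicalComplex.homologyMap (r • φ) p = r • HomologicalComplex.homologyMap φ p :=
  ShortComplex.homologyMap_smul ((HomologicalComplex.shortComplexFunctor (ModuleCat.{u} A) _ p).map φ) r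

/-- The homology of `X ⊗ Q` is killed by whatever kills `Y`. -/
theorem smul_homology_eq_zero {r : A} (hr : ∀ y : Y, r • y = 0) (X : ModuleCat.{u} A) (p : ℕ)
    (x : (C Q X).homology p) : r • x = 0 := by
  have h0 : r • 𝟙 Y = 0 := ModuleCat.hom_ext (LinearMap.ext fun y => hr y)
  have h := ProjectiveResolution.isoLeftDerivedObj_hom_naturality (r • 𝟙 Y) Q Q (r • 𝟙 Q.complex)
    (by
      refine ModuleCat.hom_ext (LinearMap.ext fun y => ?_)
      show (Q.π.f 0).hom (r • y) = r • (Q.π.f 0).hom y
      exact map_smul _ _ _) (ten X) p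
  have h' := ProjectiveResolution.isoLeftDerivedObj_hom_naturality (0 : Y ⟶ Y) Q Q (0 : Q.complex ⟶ Q.complex)
    (by rw [HomologicalComplex.zero_f, zero_comp, comp_zero]) (ten X) p
  rw [h0, h', Functor.map_zero, comp_zero] at h
  have h2 : HomologicalComplex.homologyMap (r • 𝟙 (C Q X)) p = 0 := by
    rw [← cancel_epi (Q.isoLeftDerivedObj (ten X) p).hom, comp_zero]
    refine Eq.trans ?_ h.symm
    show _ ≫ _ = _ ≫ HomologicalComplex.homologyMap (((ten X).mapHomologicalComplex _).map (r • 𝟙 Q.complex)) p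
    congr 2
    refine HomologicalComplex.hom_ext _ _ fun j => ?_
    refine ModuleCat.hom_ext (TensorProduct.ext' fun a b => ?_)
    show r • (a ⊗ₜ[A] b) = a ⊗ₜ[A] (r • b)
    rw [TensorProduct.tmul_smul]
  rw [homologyMap_smul', HomologicalComplex.homologyMap_id] at h2
  exact congrArg (fun k => k.hom x) h2

theorem hmap_smul_eq_zero {r : A} (hr : ∀ y : Y, r • y = 0) {X X' : ModuleCat.{u} A} (g : X ⟶ X') (p : ℕ) :
    hmap Q (r • g) p = 0 := by
  rw [hmap, show cmap Q (r • g) = r • cmap Q g by
    refine HomologicalComplex.hom_ext _ _ fun j => ?_; exact ModuleCat.hom_ext (LinearMap.rTensor_smul (Q.complex.X j) r g.hom),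
    homologyMap_smul']
  exact ModuleCat.hom_ext (LinearMap.ext fun x => smul_homology_eq_zero Q hr X' p _)

/-- Exactness in the middle. -/
theorem hmap_exact {T : ShortComplex (ModuleCat.{u} A)} (hT : T.ShortExact) (p : ℕ)
    (x : (C Q T.X₂).homology p) (hx : (hmap Q T.g p).hom x = 0) :
    ∃ y, (hmap Q T.f p).hom y = x :=
  ((ShortComplex.ShortExact.moduleCat_exact_iff_function_exact _).1
    ((seq_shortExact hT Q).homology_exact₂ p) x).1 hx

variable {S : Type u} [CommRing S] [IsNoetherianRing S] [Algebra A S]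

omit [IsNoetherianRing S] in
theorem smul_top_eq {M : Type u} [AddCommGroup M] [Module A M] [Module S M] [IsScalarTower A S M]
    (K : Ideal A) : (K • ⊤ : Submodule A M) = ((K.map (algebraMap A S)) • ⊤ : Submodule S M).restrictScalars A := by
  refine le_antisymm (Submodule.smul_le.2 fun a ha x _ => ?_) fun x hx => ?_
  · rw [Submodule.restrictScalars_mem, ← algebraMap_smul S a x]
    exact Submodule.smul_mem_smul (Ideal.mem_map_of_mem _ ha) trivial
  · rw [Submodule.restrictScalars_mem] at hx
    refine Submodule.smul_induction_on hx (fun s hs y _ => ?_) fun x y hx hy => add_mem hx hy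
    induction hs using Submodule.span_induction generalizing y with
    | mem z hz =>
      obtain ⟨a, ha, rfl⟩ := hz
      rw [algebraMap_smul]
      exact Submodule.smul_mem_smul ha trivial
    | zero => rw [zero_smul]; exact zero_mem _
    | add z w _ _ hz hw => rw [add_smul]; exact add_mem (hz y trivial) (hw y trivial)
    | smul c z _ hz => rw [smul_eq_mul, mul_comm, mul_smul]; exact hz (c • y) trivial

/-- The principal step. -/
theorem principal {M : Type u} [AddCommGroup M] [Module A M] [Module S M] [IsScalarTower A S M]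
    [Module.Finite S M] (f : A) :
    ∃ e : ℕ, ∀ {Y : ModuleCat.{u} A} (Q : ProjectiveResolution Y), (∀ y : Y, f • y = 0) → ∀ p,
      hmap Q (ModuleCat.ofHom ((Ideal.span {f}) ^ e • (⊤ : Submodule A M)).subtype) p = 0 := by
  let g := algebraMap A S f
  let K : ℕ →o Submodule S M := ⟨fun n => LinearMap.ker ((g ^ n) • (LinearMap.id : M →ₗ[S] M)),
    fun a b hab x hx => by
      simp only [LinearMap.mem_ker, LinearMap.smul_apply, LinearMap.id_apply] at hx ⊢
      rw [← Nat.sub_add_cancel hab, pow_add, mul_smul, hx, smul_zero]⟩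
  obtain ⟨c, hc⟩ := monotone_stabilizes_iff_noetherian.2 (isNoetherian_of_isNoetherianRing_of_finite S M) K
  have hg : ∀ (n : ℕ) (x : M), g ^ n • x = f ^ n • x := fun n x => by
    rw [← map_pow, algebraMap_smul]
  have hker : ∀ x : M, f ^ (c + 1) • x = 0 → f ^ c • x = 0 := fun x hx => by
    have := (hc (c + 1) (by omega)).ge (show x ∈ K (c + 1) by simpa [K, hg] using hx)
    simpa [K, hg] using this
  refine ⟨c + 1, fun {Y} Q hY p => ?_⟩
  set R := (Ideal.span {f}) ^ (c + 1) • (⊤ : Submodule A M)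
  have hR : ∀ x : R, ∃ y : M, f ^ (c + 1) • y = (x : M) := fun x => by
    have hx : (x : M) ∈ (Ideal.span {f}) ^ (c + 1) • (⊤ : Submodule A M) := x.2
    rw [Ideal.span_singleton_pow, Submodule.ideal_span_singleton_smul] at hx
    obtain ⟨y, -, hy⟩ := Submodule.mem_smul_pointwise_iff_exists _ _ _ |>.1 hx
    exact ⟨y, hy⟩
  choose z hz using hR
  have huniq : ∀ (x : R) (y : M), f ^ (c + 1) • y = (x : M) → f ^ c • y = f ^ c • z x := fun x y hy => by
    rw [← sub_eq_zero, ← smul_sub]
    exact hker _ (by rw [smul_sub, hy, hz, sub_self])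
  let τ : R →ₗ[A] M :=
    { toFun := fun x => f ^ c • z x
      map_add' := fun x y => by
        rw [← smul_add]; exact (huniq (x + y) _ (by rw [smul_add, hz, hz]; rfl)).symm
      map_smul' := fun r x => by
        rw [RingHom.id_apply, smul_comm r (f ^ c)]
        exact (huniq (r • x) _ (by rw [smul_comm, hz]; rfl)).symm }
  have hτ : ModuleCat.ofHom R.subtype = f • ModuleCat.ofHom τ := by
    ext x
    change (x : M) = f • (f ^ c • z x)
    rw [← hz x, smul_smul, pow_succ']
  rw [hτ]
  exact hmap_smul_eq_zero Q hY _ p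

/-- Uniform vanishing, in terms of resolutions. -/
theorem exists_hmap_eq_zero (s : Finset A) :
    ∀ {M : Type u} [AddCommGroup M] [Module A M] [Module S M] [IsScalarTower A S M] [Module.Finite S M],
      ∃ n : ℕ, ∀ {Y : ModuleCat.{u} A} (Q : ProjectiveResolution Y),
        (∀ a ∈ Ideal.span (s : Set A), ∀ y : Y, a • y = 0) → ∀ p,
        hmap Q (ModuleCat.ofHom ((Ideal.span (s : Set A)) ^ n • (⊤ : Submodule A M)).subtype) p = 0 := by
  classical
  induction s using Finset.induction with
  | empty =>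
    intro M _ _ _ _ _
    refine ⟨1, fun {Y} Q _ p => ?_⟩
    have : ModuleCat.ofHom ((Ideal.span ((∅ : Finset A) : Set A)) ^ 1 • (⊤ : Submodule A M)).subtype = 0 := by
      ext x
      have := x.2
      simp at this
      simpa using this
    rw [this]; exact hmap_zero Q p
  | insert f s _ ih =>
    intro M _ _ _ _ _
    obtain ⟨a, ha⟩ := ih (M := M)
    let N0 : Submodule S M := ((Ideal.span (s : Set A)) ^ a).map (algebraMap A S) • ⊤
    let π : M →ₗ[A] M ⧸ N0 := N0.mkQ.restrictScalars A
    obtain ⟨e, he⟩ := principal (A := A) (S := S) (M := M ⧸ N0) f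
    refine ⟨e + a, fun {Y} Q hY p => ?_⟩
    set I := Ideal.span ((insert f s : Finset A) : Set A) with hI
    set K := (Ideal.span (s : Set A)) ^ a • (⊤ : Submodule A M)
    set T := I ^ (e + a) • (⊤ : Submodule A M)
    set Re := (Ideal.span {f}) ^ e • (⊤ : Submodule A (M ⧸ N0))
    have hKπ : ∀ x, π x = 0 ↔ x ∈ K := fun x => by
      show N0.mkQ x = 0 ↔ _
      rw [Submodule.mkQ_apply, Submodule.Quotient.mk_eq_zero]
      exact (SetLike.ext_iff.1 (smul_top_eq (S := S) (M := M) ((Ideal.span (s : Set A)) ^ a)) x).symm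
    let E : ShortComplex (ModuleCat.{u} A) := ShortComplex.mk (ModuleCat.ofHom K.subtype) (ModuleCat.ofHom π)
      (ModuleCat.hom_ext (LinearMap.ext fun x => (hKπ x.1).2 x.2))
    have hE : E.ShortExact :=
      { exact := (ShortComplex.ShortExact.moduleCat_exact_iff_function_exact _).2 fun x =>
          ⟨fun hx => ⟨⟨x, (hKπ x).1 hx⟩, rfl⟩, by rintro ⟨y, rfl⟩; exact (hKπ y.1).2 y.2⟩
        mono_f := (ModuleCat.mono_iff_injective _).2 Subtype.val_injective
        epi_g := (ModuleCat.epi_iff_surjective _).2 N0.mkQ_surjective }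
    have hmem : ∀ x ∈ T, π x ∈ Re := by
      intro x hx
      have h1 : T ≤ (Ideal.span {f}) ^ e • ⊤ ⊔ K := by
        refine (Submodule.smul_mono_left ?_).trans (Submodule.sup_smul _ _ _).le
        rw [hI, Finset.coe_insert, Ideal.span_insert]
        exact Ideal.sup_pow_add_le_pow_sup_pow
      obtain ⟨y, hy, z, hz, rfl⟩ := Submodule.mem_sup.1 (h1 hx)
      rw [map_add, (hKπ z).2 hz, add_zero]
      have := Submodule.mem_map_of_mem (f := π) hy
      rw [Submodule.map_smul''] at this
      exact Submodule.smul_mono le_rfl le_top this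
    let ρ : T →ₗ[A] Re := (π ∘ₗ T.subtype).codRestrict Re fun x => hmem x x.2
    have hρ : ModuleCat.ofHom T.subtype ≫ ModuleCat.ofHom π =
        ModuleCat.ofHom ρ ≫ ModuleCat.ofHom Re.subtype := rfl
    have hfI : ∀ y : Y, f • y = 0 := hY f (Ideal.subset_span (Finset.mem_insert_self f s))
    have hsI : ∀ b ∈ Ideal.span (s : Set A), ∀ y : Y, b • y = 0 := fun b hb => hY b
      (Ideal.span_mono (Finset.coe_subset.2 (Finset.subset_insert f s)) hb)
    refine ModuleCat.hom_ext (LinearMap.ext fun x => ?_)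
    have h1 : (hmap Q E.g p).hom ((hmap Q (ModuleCat.ofHom T.subtype) p).hom x) = 0 := by
      show (hmap Q (ModuleCat.ofHom T.subtype) p ≫ hmap Q (ModuleCat.ofHom π) p).hom x = 0
      rw [← hmap_comp, hρ, hmap_comp, he Q hfI p, comp_zero]
      rfl
    obtain ⟨y, hy⟩ := hmap_exact Q hE p _ h1
    show (hmap Q (ModuleCat.ofHom T.subtype) p).hom x = 0
    rw [← hy, show hmap Q E.f p = 0 from ha Q hsI p]
    rfl

/-- `Tor` in its first variable through a resolution. -/
theorem tor_map_app {X X' : ModuleCat.{u} A} (g : X ⟶ X') (p : ℕ) :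
    ((Tor (ModuleCat.{u} A) p).map g).app Y =
      (Q.isoLeftDerivedObj (ten X) p).hom ≫ hmap Q g p ≫ (Q.isoLeftDerivedObj (ten X') p).inv :=
  Q.leftDerived_app_eq ((tensoringLeft (ModuleCat.{u} A)).map g) p

/-- Uniform Artin–Rees for `Tor`. -/
theorem exists_tor_map_eq_zero (I : Ideal A) (hI : I.FG) (M : Type u) [AddCommGroup M] [Module A M]
    [Module S M] [IsScalarTower A S M] [Module.Finite S M] :
    ∃ n : ℕ, ∀ (N : Type u) [AddCommGroup N] [Module A N], (∀ a ∈ I, ∀ y : N, a • y = 0) → ∀ m, n ≤ m → ∀ p : ℕ,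
      ((Tor (ModuleCat.{u} A) p).map (ModuleCat.ofHom (I ^ m • ⊤ : Submodule A M).subtype)).app
        (ModuleCat.of A N) = 0 := by
  obtain ⟨s, hs⟩ := hI
  subst hs
  obtain ⟨n, hn⟩ := exists_hmap_eq_zero (A := A) (S := S) s (M := M)
  refine ⟨n, fun N _ _ hN m hm p => ?_⟩
  let Q := projectiveResolution (ModuleCat.of A N)
  have hle : (Ideal.span (s : Set A)) ^ m • (⊤ : Submodule A M) ≤ (Ideal.span (s : Set A)) ^ n • ⊤ :=
    Submodule.smul_mono_left (Ideal.pow_le_pow_right hm)
  have hfac : ModuleCat.ofHom ((Ideal.span (s : Set A)) ^ m • ⊤ : Submodule A M).subtype =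
      ModuleCat.ofHom (Submodule.inclusion hle) ≫
        ModuleCat.ofHom ((Ideal.span (s : Set A)) ^ n • ⊤ : Submodule A M).subtype := rfl
  rw [tor_map_app Q, hfac, hmap_comp,
    hn Q hN p, comp_zero, zero_comp, comp_zero]

end H1TorAR
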