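import Groth.Agent.H1TorAR.Basic
import Groth.Agent.CAlgOdd.TorSymm.Main
import Mathlib

/-! Uniform vanishing of `Tor_p(I^{k+c}, N) → Tor_p(I^k, N)` and of maps between `Tor(−, R/I^n)`. -/

set_option autoImplicit false
set_option backward.isDefEq.respectTransparency false
set_option backward.isDefEq.respectTransparency.types false
set_option linter.style.haveILetI false

universe u

open CategoryTheory Limits MonoidalCategory TensorProduct

namespace H1TorAR

open Groth.Agent.TorBridge KerNat

variable {A : Type u} [CommRing A]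

/-- A map through a submodule with vanishing inclusion. -/
theorem hmap_eq_zero_of_factor {Y : ModuleCat.{u} A} {Q : ProjectiveResolution Y} {p : ℕ} {M X Z : Type u}
    [AddCommGroup M] [Module A M] [AddCommGroup X] [Module A X] [AddCommGroup Z] [Module A Z]
    {T : Submodule A M} (h0 : hmap Q (ModuleCat.ofHom T.subtype) p = 0) (g : X →ₗ[A] Z)
    (ι : X →ₗ[A] T) (π : M →ₗ[A] Z) (hg : ∀ x, π (ι x : M) = g x) :
    hmap Q (ModuleCat.ofHom g) p = 0 := by
  rw [show ModuleCat.ofHom g = ModuleCat.ofHom ι ≫ ModuleCat.ofHom T.subtype ≫ ModuleCat.ofHom π from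
    ModuleCat.hom_ext (LinearMap.ext fun x => (hg x).symm), hmap_comp, hmap_comp, h0, zero_comp, comp_zero]

/-- Uniformly in the power of the ideal. -/
theorem exists_hmap_pow_eq_zero [IsNoetherianRing A] (I : Ideal A) (m : ℕ) :
    ∃ c : ℕ, ∀ {Y : ModuleCat.{u} A} (Q : ProjectiveResolution Y), (∀ a ∈ I ^ m, ∀ y : Y, a • y = 0) →
      ∀ (k p : ℕ) (h : I ^ (k + c) ≤ I ^ k), hmap Q (ModuleCat.ofHom (Submodule.inclusion h)) p = 0 := by
  classical
  obtain ⟨s, hs⟩ := IsNoetherian.noetherian (I ^ m)
  replace hs : Ideal.span (s : Set A) = I ^ m := hs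
  obtain ⟨n, hn⟩ := exists_hmap_eq_zero (A := A) (S := reesAlgebra I) s (M := reesAlgebra I)
  refine ⟨m * n, fun {Y} Q hY k p h => ?_⟩
  set T := (Ideal.span (s : Set A)) ^ n • (⊤ : Submodule A (reesAlgebra I)) with hT
  have hu : ∀ x ∈ I ^ (k + m * n), ∃ hx : Polynomial.monomial k x ∈ reesAlgebra I,
      (⟨_, hx⟩ : reesAlgebra I) ∈ T := by
    intro x hx
    rw [pow_add, mul_comm, ← smul_eq_mul] at hx
    refine Submodule.smul_induction_on hx (fun a ha b hb => ?_) fun x y hx hy => ?_
    · have hb' : Polynomial.monomial k b ∈ reesAlgebra I := reesAlgebra.monomial_mem.2 hb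
      have e : Polynomial.monomial k (a • b) = a • Polynomial.monomial k b := by
        rw [Polynomial.smul_monomial]
      rw [pow_mul, ← hs] at ha
      exact ⟨e ▸ Subalgebra.smul_mem _ hb' a, by
        rw [show (⟨_, e ▸ Subalgebra.smul_mem _ hb' a⟩ : reesAlgebra I) = a • ⟨_, hb'⟩ from Subtype.ext e]
        exact Submodule.smul_mem_smul ha trivial⟩
    · obtain ⟨h1, h1'⟩ := hx; obtain ⟨h2, h2'⟩ := hy
      refine ⟨by rw [map_add]; exact add_mem h1 h2, ?_⟩
      convert add_mem h1' h2' using 1
      exact Subtype.ext (map_add _ x y)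
  let ι : ↥(I ^ (k + m * n)) →ₗ[A] T :=
    { toFun := fun x => ⟨⟨Polynomial.monomial k (x : A), (hu x x.2).1⟩, (hu x x.2).2⟩
      map_add' := fun x y => Subtype.ext (Subtype.ext (map_add _ _ _))
      map_smul' := fun r x => Subtype.ext (Subtype.ext (map_smul _ _ _)) }
  let π : reesAlgebra I →ₗ[A] ↥(I ^ k) :=
    { toFun := fun z => ⟨(z : Polynomial A).coeff k, (mem_reesAlgebra_iff I _).1 z.2 k⟩
      map_add' := fun x y => Subtype.ext (Polynomial.coeff_add _ _ _)
      map_smul' := fun r x => Subtype.ext (Polynomial.coeff_smul _ _ _) }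
  refine hmap_eq_zero_of_factor (hn Q (by rw [hs]; exact hY) p) _ ι π fun x => Subtype.ext ?_
  show (Polynomial.monomial k (x : A)).coeff k = (x : A)
  rw [Polynomial.coeff_monomial, if_pos rfl]

/-- The sequence of an ideal. -/
noncomputable abbrev idealSC (J : Ideal A) : ShortComplex (ModuleCat.{u} A) :=
  ShortComplex.mk (ModuleCat.ofHom J.subtype) (ModuleCat.ofHom J.mkQ)
    (ModuleCat.hom_ext (LinearMap.ext fun x => (Submodule.Quotient.mk_eq_zero J).2 x.2))

theorem shortExact_idealSC (J : Ideal A) : (idealSC J).ShortExact :=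
  { exact := (ShortComplex.ShortExact.moduleCat_exact_iff_function_exact _).2 (LinearMap.exact_subtype_mkQ J)
    mono_f := (ModuleCat.mono_iff_injective _).2 Subtype.val_injective
    epi_g := (ModuleCat.epi_iff_surjective _).2 (Submodule.mkQ_surjective J) }

/-- The quotient map vanishes on `Tor` when the inclusion does, one degree lower. -/
theorem hmap_factor_eq_zero {Y : ModuleCat.{u} A} (Q : ProjectiveResolution Y) {J J' : Ideal A} (h : J ≤ J') (p : ℕ)
    (h0 : hmap Q (ModuleCat.ofHom (Submodule.inclusion h)) p = 0) :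
    hmap Q (ModuleCat.ofHom (Submodule.factor h)) (p + 1) = 0 := by
  let φ : seq (idealSC J) Q ⟶ seq (idealSC J') Q :=
    { τ₁ := cmap Q (ModuleCat.ofHom (Submodule.inclusion h))
      τ₂ := 𝟙 _
      τ₃ := cmap Q (ModuleCat.ofHom (Submodule.factor h))
      comm₁₂ := by
        refine HomologicalComplex.hom_ext _ _ fun j => ModuleCat.hom_ext (TensorProduct.ext' fun a b => ?_)
        rfl
      comm₂₃ := by
        refine HomologicalComplex.hom_ext _ _ fun j => ModuleCat.hom_ext (TensorProduct.ext' fun a b => ?_)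
        rfl }
  have hδ := HomologicalComplex.HomologySequence.δ_naturality φ
    (seq_shortExact (shortExact_idealSC J) Q) (seq_shortExact (shortExact_idealSC J') Q) (p + 1) p rfl
  haveI : Mono ((seq_shortExact (shortExact_idealSC J') Q).δ (p + 1) p rfl) := by
    refine ((seq_shortExact (shortExact_idealSC J') Q).homology_exact₃ (p + 1) p rfl).mono_g ?_
    refine IsZero.eq_of_src ?_ _ _
    show IsZero ((((ten (ModuleCat.of A A)).mapHomologicalComplex _).obj Q.complex).homology (p + 1))
    rw [← HomologicalComplex.exactAt_iff_isZero_homology,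
      HomologicalComplex.exactAt_iff' _ (p + 2) (p + 1) p (by simp) (by simp),
      ShortComplex.ShortExact.moduleCat_exact_iff_function_exact]
    exact Module.Flat.lTensor_exact A
      ((ShortComplex.ShortExact.moduleCat_exact_iff_function_exact _).1 (Q.exact_succ p))
  rw [← cancel_mono ((seq_shortExact (shortExact_idealSC J') Q).δ (p + 1) p rfl), zero_comp]
  refine hδ.symm.trans ?_
  rw [show HomologicalComplex.homologyMap φ.τ₁ p = 0 from h0, comp_zero]

/-- Moving to the second variable. -/
theorem tor_obj_map_eq_zero {X X' : ModuleCat.{u} A} (f : X ⟶ X') (M : ModuleCat.{u} A) (i : ℕ)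
    (h : hmap (projectiveResolution M) f i = 0) :
    ((Tor (ModuleCat.{u} A) i).obj M).map f = 0 := by
  obtain ⟨e⟩ := Groth.Agent.CAlgOdd.TorSymm.nonempty_flip (R := A) i
  have h1 : ((Tor (ModuleCat.{u} A) i).map f).app M = 0 := by
    rw [tor_map_app (projectiveResolution M) f i, h, zero_comp, comp_zero]
  rw [← cancel_mono (((e.app M).app X').hom), zero_comp]
  exact ((e.hom.app M).naturality f).trans (by
    show _ ≫ ((Tor (ModuleCat.{u} A) i).map f).app M = 0
    rw [h1, comp_zero])

end H1TorAR
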